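import Groth.Agent.Misc7.ClosedImm.Modules
import Groth.Agent.PicAux.ThickInj
import Groth.Agent.PicAux.EffCartierLine
import Groth.Agent.QCohMod.Category
import Groth.Agent.DerivedCoh.KFlat.SchemeStalk
import Groth.Agent.HilbStab.BC.Pull
import Groth.Agent.KTheory.LocFree
import Mathlib.CategoryTheory.Abelian.Projective.Basic

/-!
Finite locally free modules along a first order thickening.
-/

set_option autoImplicit false
set_option linter.style.longLine false

noncomputable section

universe u

open CategoryTheory CategoryTheory.Limits AlgebraicGeometry TopologicalSpace Opposite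
open scoped TensorProduct
open Groth.PicAux (res resX)
open Groth.QCohMod (germ germ_res germ_smul exists_germ)
open Groth.CohTwo.LocFreeExt (tR)
open Groth.Misc7.ClosedImm

namespace Groth.ArtfunDeform.VbLift

variable {X : Scheme.{u}} {I : X.IdealSheafData} (hI : I ^ 2 = ⊥)

include hI in
theorem sq_zero : I * I = ⊥ := (pow_two I).symm.trans hI

local notation "Pull" => Scheme.Modules.pullback I.subschemeι
local notation "Push" => Scheme.Modules.pushforward I.subschemeι
local notation "adjI" => Scheme.Modules.pullbackPushforwardAdjunction I.subschemeι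

include hI in
theorem killed_idealMod : Killed I.subschemeι (ClSub.idealMod I) := by
  refine ⟨fun x hx => absurd (Groth.PicAux.ThickInj.mem_range (sq_zero hI) x) hx, fun z a ha t => ?_⟩
  obtain ⟨U, hU, s, rfl⟩ := exists_germ (ClSub.idealMod I) (I.subschemeι z) t
  obtain ⟨V, hV, r, rfl⟩ := TopCat.Presheaf.exists_germ_eq X.presheaf a
  rw [Scheme.Hom.germ_stalkMap_apply] at ha
  obtain ⟨Z', hzZ', j, j', he⟩ := TopCat.Presheaf.germ_eq I.subscheme.presheaf z hV hV (I.subschemeι.app V r) 0
    (ha.trans (map_zero (I.subscheme.presheaf.germ (I.subschemeι ⁻¹ᵁ V) z hV).hom).symm)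
  obtain ⟨U', hU', hU''⟩ := I.subschemeι.isClosedEmbedding.isInducing.isOpen_iff.mp Z'.2
  let W : X.Opens := U ⊓ V ⊓ ⟨U', hU'⟩
  have hzW : I.subschemeι z ∈ W := ⟨⟨hU, hV⟩, show z ∈ I.subschemeι ⁻¹' U' from hU''.symm ▸ hzZ'⟩
  have hle : W ≤ U := inf_le_left.trans inf_le_left
  have hleV : W ≤ V := inf_le_left.trans inf_le_right
  rw [← germ_res (ClSub.idealMod I) hle (I.subschemeι z) hzW s,
    ← TopCat.Presheaf.germ_res_apply X.presheaf (homOfLE hleV) (I.subschemeι z) hzW r, ← germ_smul]
  refine Eq.trans (congrArg _ ?_) (map_zero (germ (ClSub.idealMod I) (I.subschemeι z) (U := W) hzW))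
  have hmono : (ShortComplex.mk (ClSub.idealModι I) (ClSub.toSubscheme I)
      (kernel.condition (ClSub.toSubscheme I))).ShortExact := Groth.PicAux.shortExact_idealMod I
  have := hmono.mono_f
  refine Groth.QCohMod.app_injective_of_mono (ClSub.idealModι I) W ?_
  rw [map_zero, Scheme.Modules.Hom.app_smul]
  refine Groth.PicAux.ThickInj.mul_eq_zero_of_app (sq_zero hI) ?_ ?_
  · refine (congr($(I.subschemeι.naturality (homOfLE hleV).op) r)).trans ?_
    have hle' : I.subschemeι ⁻¹ᵁ W ≤ Z' := fun w hw => (Set.ext_iff.1 hU'' w).1 hw.2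
    have e0 : resX I.subscheme hle' (I.subscheme.presheaf.map j.op (I.subschemeι.app V r)) = 0 := by
      rw [he, map_zero, map_zero]
    refine Eq.trans ?_ e0
    exact (Groth.PicAux.resX_resX _ hle' (I.subschemeι.app V r)).symm
  · exact congr(($(kernel.condition (ClSub.toSubscheme I))).app W
      ((ClSub.idealMod I).presheaf.map (homOfLE hle).op s))

theorem killed_tensor_left {Z : Scheme.{u}} (i : Z ⟶ X) [IsClosedImmersion i] {G : X.Modules} (h : Killed i G)
    (F : X.Modules) : Killed i (CohB1.tensorMod G F) := by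
  refine ⟨fun x hx t => ?_, fun z a ha t => ?_⟩
  · obtain ⟨w, rfl⟩ := (Groth.QCohMod.stalkTensorEquiv G F x).surjective t
    induction w using TensorProduct.induction_on with
    | zero => exact map_zero _
    | tmul s m => rw [h.outside x hx s, TensorProduct.zero_tmul]; exact map_zero _
    | add p q hp hq => exact (map_add _ p q).trans (by rw [hp, hq]; exact add_zero _)
  · obtain ⟨w, rfl⟩ := (Groth.QCohMod.stalkTensorEquiv G F (i z)).surjective t
    induction w using TensorProduct.induction_on with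
    | zero => rw [map_zero]; exact smul_zero a
    | tmul s m =>
      refine (map_smul (Groth.QCohMod.stalkTensorEquiv G F (i z)) a _).symm.trans ?_
      rw [TensorProduct.smul_tmul', h.killed z a ha s, TensorProduct.zero_tmul]
      exact map_zero _
    | add p q hp hq => rw [map_add, smul_add]; exact (congrArg₂ (· + ·) hp hq).trans (add_zero _)

theorem flat_stalk {F : X.Modules} (hF : FlatMod.IsFinLocFree F) (x : X) :
    Module.Flat (X.presheaf.stalk x) (((DerSch.stalkFunctor X x).obj F)) := by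
  have := Groth.KTheory.LocFree.free_stalk hF x
  exact inferInstanceAs (Module.Flat (X.presheaf.stalk x) (F.presheaf.stalk x))

theorem shortExact_tensor {F : X.Modules} (hF : FlatMod.IsFinLocFree F) {S : ShortComplex X.Modules}
    (hS : S.ShortExact) : (S.map (tR F)).ShortExact := by
  refine (Groth.DerivedCoh.KFlat.shortExact_iff_stk _).2 fun x => ?_
  have := flat_stalk hF x
  have h := (Groth.DerivedCoh.KFlat.shortExact_iff_stk S).1 hS x
  exact ShortComplex.shortExact_of_iso
    (S.mapNatIso (Groth.DerivedCoh.KFlat.tensorFlipStkIso F x)).symm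
    (h.map_of_exact (MonoidalCategory.tensorRight ((Groth.DerivedCoh.KFlat.stk x).obj F)))

theorem pull_idealModι : (Pull).map (ClSub.idealModι I) = 0 := by
  have : IsIso (Groth.PicAux.pullUnit I.subschemeι) := Groth.PicAux.isIso_pullUnit _
  rw [← cancel_mono (Groth.PicAux.pullUnit I.subschemeι), zero_comp]
  have : (Pull).Additive := (adjI).left_adjoint_additive
  have : (Push).Additive := (adjI).right_adjoint_additive
  refine ((adjI).homEquiv _ _).injective ?_
  rw [Adjunction.homEquiv_naturality_left, Adjunction.homEquiv_unit, Adjunction.homEquiv_unit,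
    Groth.PicAux.unit_pullUnit I.subschemeι, Functor.map_zero, comp_zero]
  exact kernel.condition (ClSub.toSubscheme I)

include hI in
/-- A locally free module is an extension of its restriction by the ideal tensor the restriction. -/
theorem exists_fundamental {F : X.Modules} (hF : FlatMod.IsFinLocFree F) :
    ∃ (j : (Push).obj (CohB1.tensorMod ((Pull).obj (ClSub.idealMod I)) ((Pull).obj F)) ⟶ F)
      (w : j ≫ (adjI).unit.app F = 0), (ShortComplex.mk j ((adjI).unit.app F) w).ShortExact := by
  let S₀ := ShortComplex.mk (ClSub.idealModι I) (ClSub.toSubscheme I) (kernel.condition (ClSub.toSubscheme I))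
  let S := S₀.map (tR F)
  have hS : S.ShortExact := shortExact_tensor hF (Groth.PicAux.shortExact_idealMod I)
  have hk₁ : Killed I.subschemeι S.X₁ := killed_tensor_left I.subschemeι (killed_idealMod hI) F
  have hk₃ : Killed I.subschemeι S.X₃ := killed_tensor_left I.subschemeι (killed_push I.subschemeι _) F
  obtain ⟨e, -⟩ := Groth.PicAux.exists_leftUnitor F
  let g₀ : CohB1.tensorMod (Coh.structureModule X) F ⟶ S.X₃ := S.g
  let f₀ : S.X₁ ⟶ CohB1.tensorMod (Coh.structureModule X) F := S.f
  have hfg : f₀ ≫ g₀ = 0 := S.zero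
  let g : F ⟶ S.X₃ := e.inv ≫ g₀
  let f : S.X₁ ⟶ F := f₀ ≫ e.hom
  have : (Pull).Additive := (adjI).left_adjoint_additive
  have hf0 : (Pull).map S.f = 0 := by
    have h := (pullTensorIso I.subschemeι F).hom.naturality (ClSub.idealModι I)
    have h0 : (tR ((Pull).obj F)).map ((Pull).map (ClSub.idealModι I)) = 0 := by
      rw [pull_idealModι]
      have := Groth.CohTwo.LocFreeExt.additive_tR ((Pull).obj F)
      exact (tR ((Pull).obj F)).map_zero _ _
    change (Pull).map ((tR F).map (ClSub.idealModι I)) = 0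
    rw [← cancel_mono ((pullTensorIso I.subschemeι F).hom.app (Coh.structureModule X)), zero_comp]
    refine h.trans ?_
    change _ ≫ (tR ((Pull).obj F)).map ((Pull).map (ClSub.idealModι I)) = 0
    rw [h0, comp_zero]
  have : PreservesColimitsOfSize.{0, 0} (Pull) := (adjI).leftAdjoint_preservesColimits
  have := hS.epi_g
  have hex : (S.map (Pull)).Exact := hS.exact.map_of_epi_of_preservesCokernel _ inferInstance inferInstance
  have : Mono ((Pull).map S.g) := hex.mono_g hf0
  have : Epi ((Pull).map S.g) := (Pull).map_epi S.g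
  have : IsIso ((Pull).map S.g) := isIso_of_mono_of_epi _
  have : IsIso ((Pull).map g) := by
    change IsIso ((Pull).map (e.inv ≫ g₀))
    have : IsIso ((Pull).map g₀) := ‹IsIso ((Pull).map S.g)›
    rw [Functor.map_comp]
    infer_instance
  have hu := isIso_unit I.subschemeι hk₃
  have hunit : (adjI).unit.app F = g ≫ (adjI).unit.app S.X₃ ≫ inv ((Push).map ((Pull).map g)) := by
    rw [← Category.assoc, IsIso.eq_comp_inv]
    exact ((adjI).unit.naturality g).symm
  have hu₁ := isIso_unit I.subschemeι hk₁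
  let a : S.X₁ ≅ (Push).obj (CohB1.tensorMod ((Pull).obj (ClSub.idealMod I)) ((Pull).obj F)) :=
    @asIso _ _ _ _ ((adjI).unit.app S.X₁) hu₁ ≪≫
      (Push).mapIso ((pullTensorIso I.subschemeι F).app (ClSub.idealMod I))
  let c : S.X₃ ≅ (Push).obj ((Pull).obj F) :=
    @asIso _ _ _ _ ((adjI).unit.app S.X₃) hu ≪≫ (asIso ((Push).map ((Pull).map g))).symm
  have hc : g ≫ c.hom = (adjI).unit.app F := hunit.symm
  have w : (a.inv ≫ f) ≫ (adjI).unit.app F = 0 := by
    rw [← hc]
    change (a.inv ≫ f₀ ≫ e.hom) ≫ (e.inv ≫ g₀) ≫ c.hom = 0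
    simp only [Category.assoc, e.hom_inv_id_assoc]
    rw [reassoc_of% hfg, zero_comp, comp_zero]
  refine ⟨a.inv ≫ f, w, ?_⟩
  let φ : S ≅ ShortComplex.mk (a.inv ≫ f) ((adjI).unit.app F) w :=
    ShortComplex.isoMk a e c ((a.hom_inv_id_assoc f).trans rfl) (by
      change e.hom ≫ (adjI).unit.app F = S.g ≫ c.hom
      rw [← hc]
      change e.hom ≫ (e.inv ≫ g₀) ≫ c.hom = g₀ ≫ c.hom
      rw [Category.assoc]
      exact e.hom_inv_id_assoc _)
  exact ShortComplex.shortExact_of_iso φ hS

theorem shortExact_pullback {Z : Scheme.{u}} (g : Z ⟶ X) {S : ShortComplex X.Modules} (hS : S.ShortExact)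
    (h₃ : FlatMod.IsFinLocFree S.X₃) : (S.map (Scheme.Modules.pullback g)).ShortExact := by
  refine (Groth.DerivedCoh.KFlat.shortExact_iff_stk _).2 fun z => ?_
  have h := (Groth.DerivedCoh.KFlat.shortExact_iff_stk S).1 hS (g z)
  have := Groth.KTheory.LocFree.free_stalk h₃ (g z)
  have : Module.Free (X.presheaf.stalk (g z)) (((Groth.DerivedCoh.KFlat.stk (g z)).obj S.X₃)) := this
  have : Projective (S.map (Groth.DerivedCoh.KFlat.stk (g z))).X₃ :=
    inferInstanceAs (Projective ((Groth.DerivedCoh.KFlat.stk (g z)).obj S.X₃))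
  let σ := h.splittingOfProjective
  have : (ModuleCat.extendScalars.{u, u, u} (g.stalkMap z).hom).Additive :=
    (ModuleCat.extendRestrictScalarsAdj (g.stalkMap z).hom).left_adjoint_additive
  exact ShortComplex.shortExact_of_iso (S.mapNatIso (Groth.DerivedCoh.KFlat.pullStkIso g z)).symm
    (σ.map (ModuleCat.extendScalars.{u, u, u} (g.stalkMap z).hom)).shortExact

/-- Extensions of a locally free module by a direct image split when their restrictions must. -/
theorem exists_section {Z : Scheme.{u}} (g : Z ⟶ X) {E : X.Modules} (hE : FlatMod.IsFinLocFree E) (N : Z.Modules)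
    [HasExt.{u} Z.Modules] (h1 : Subsingleton (Abelian.Ext.{u} ((Scheme.Modules.pullback g).obj E) N 1))
    {G : X.Modules} (j : (Scheme.Modules.pushforward g).obj N ⟶ G) (q : G ⟶ E) (w : j ≫ q = 0)
    (hS : (ShortComplex.mk j q w).ShortExact) : ∃ s : E ⟶ G, s ≫ q = 𝟙 E := by
  let A := Scheme.Modules.pullbackPushforwardAdjunction g
  have hS' := shortExact_pullback g hS hE
  obtain ⟨x₂, hx₂⟩ := Abelian.Ext.contravariant_sequence_exact₁ hS'
    (Y := N) (n₀ := 0) (n₁ := 1) (Abelian.Ext.mk₀ (A.counit.app N)) (by rfl) (h1.elim _ _)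
  obtain ⟨φ, rfl⟩ := (Abelian.Ext.mk₀_bijective _ _).2 x₂
  rw [Abelian.Ext.mk₀_comp_mk₀] at hx₂
  have hφ : (Scheme.Modules.pullback g).map j ≫ φ = A.counit.app N := (Abelian.Ext.mk₀_bijective _ _).1 hx₂
  have hr : j ≫ A.homEquiv _ _ φ = 𝟙 _ := by
    refine (A.homEquiv_naturality_left _ _).symm.trans ((congrArg _ hφ).trans ?_)
    exact (A.homEquiv_unit _ _ _).trans (A.right_triangle_components N)
  have := hS.epi_g
  let σ := ShortComplex.Splitting.ofExactOfRetraction _ hS.exact (A.homEquiv _ _ φ) hr inferInstance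
  exact ⟨σ.s, σ.s_g⟩

/-- Morphisms into a quotient by a direct image lift when the first Ext vanishes. -/
theorem exists_lift {Z : Scheme.{u}} (g : Z ⟶ X) {E F Q : X.Modules} (hE : FlatMod.IsFinLocFree E) (N : Z.Modules)
    [HasExt.{u} Z.Modules] (h1 : Subsingleton (Abelian.Ext.{u} ((Scheme.Modules.pullback g).obj E) N 1))
    (j : (Scheme.Modules.pushforward g).obj N ⟶ F) (p : F ⟶ Q) (w : j ≫ p = 0)
    (hS : (ShortComplex.mk j p w).ShortExact) (b : E ⟶ Q) : ∃ v : E ⟶ F, v ≫ p = b := by
  have := hS.mono_f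
  have : Epi p := hS.epi_g
  let j' : (Scheme.Modules.pushforward g).obj N ⟶ pullback p b := pullback.lift j 0 (by rw [w, zero_comp])
  have w' : j' ≫ pullback.snd p b = 0 := pullback.lift_snd _ _ _
  have : Mono j' := mono_of_mono_fac (pullback.lift_fst j 0 (by rw [w, zero_comp]) : j' ≫ pullback.fst p b = j)
  have hex : (ShortComplex.mk j' (pullback.snd p b) w').Exact := by
    refine ShortComplex.exact_of_f_is_kernel _ (KernelFork.IsLimit.ofι' j' w' fun {A} k hk => ⟨hS.exact.lift
      (k ≫ pullback.fst p b) (by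
        change (k ≫ pullback.fst p b) ≫ p = 0
        rw [Category.assoc, pullback.condition, reassoc_of% hk, zero_comp]), ?_⟩)
    refine pullback.hom_ext ?_ ?_
    · rw [Category.assoc, pullback.lift_fst]
      exact hS.exact.lift_f _ _
    · rw [Category.assoc, w', comp_zero, hk]
  obtain ⟨s, hs⟩ := exists_section g hE _ h1 j' (pullback.snd p b) w'
    { exact := hex, mono_f := ‹_›, epi_g := inferInstanceAs (Epi (pullback.snd p b)) }
  exact ⟨s ≫ pullback.fst p b, by rw [Category.assoc, pullback.condition, reassoc_of% hs]⟩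

include hI in
/-- Morphisms of restrictions extend when the first Ext vanishes. -/
theorem exists_hom {E F : X.Modules} (hE : FlatMod.IsFinLocFree E) (hF : FlatMod.IsFinLocFree F)
    [HasExt.{u} I.subscheme.Modules]
    (h1 : Subsingleton (Abelian.Ext.{u} ((Pull).obj E)
      (CohB1.tensorMod ((Pull).obj (ClSub.idealMod I)) ((Pull).obj F)) 1))
    (u₀ : (Pull).obj E ⟶ (Pull).obj F) : ∃ v : E ⟶ F, (Pull).map v = u₀ := by
  obtain ⟨j, w, hS⟩ := exists_fundamental hI hF
  obtain ⟨v, hv⟩ := exists_lift I.subschemeι hE _ h1 j ((adjI).unit.app F) w hS ((adjI).unit.app E ≫ (Push).map u₀)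
  refine ⟨v, ((adjI).homEquiv _ _).injective ?_⟩
  rw [Adjunction.homEquiv_unit, Adjunction.homEquiv_unit]
  exact ((adjI).unit.naturality v).symm.trans hv

include hI in
/-- Morphisms killed by restriction vanish when there are no morphisms into the ideal tensor the restriction. -/
theorem hom_unique {E F : X.Modules} (hF : FlatMod.IsFinLocFree F)
    (h0 : Subsingleton ((Pull).obj E ⟶ CohB1.tensorMod ((Pull).obj (ClSub.idealMod I)) ((Pull).obj F)))
    {v v' : E ⟶ F} (h : (Pull).map v = (Pull).map v') : v = v' := by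
  obtain ⟨j, w, hS⟩ := exists_fundamental hI hF
  have := hS.mono_f
  have h' : (v - v') ≫ (adjI).unit.app F = 0 := by
    rw [Preadditive.sub_comp, sub_eq_zero]
    exact ((adjI).unit.naturality v).trans ((congrArg (fun t => (adjI).unit.app E ≫ (Push).map t) h).trans
      ((adjI).unit.naturality v').symm)
  rw [← sub_eq_zero, ← hS.exact.lift_f _ h']
  have : Subsingleton (E ⟶ (Push).obj (CohB1.tensorMod ((Pull).obj (ClSub.idealMod I)) ((Pull).obj F))) :=
    ((adjI).homEquiv _ _).symm.subsingleton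
  rw [Subsingleton.elim (hS.exact.lift (v - v') h') 0, zero_comp]

include hI in
theorem isIso_of_pull_eq_id {F : X.Modules} (hF : FlatMod.IsFinLocFree F) {w : F ⟶ F}
    (h : (Pull).map w = 𝟙 _) : IsIso w := by
  obtain ⟨j, hj, hS⟩ := exists_fundamental hI hF
  have := hS.mono_f
  have h0 : (w - 𝟙 F) ≫ (adjI).unit.app F = 0 := by
    rw [Preadditive.sub_comp, sub_eq_zero]
    refine ((adjI).unit.naturality w).trans ?_
    change (adjI).unit.app F ≫ (Push).map ((Pull).map w) = _
    rw [h, CategoryTheory.Functor.map_id]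
    exact (Category.comp_id _).trans (Category.id_comp _).symm
  let φ := hS.exact.lift (w - 𝟙 F) h0
  have hφ : φ ≫ j = w - 𝟙 F := hS.exact.lift_f _ h0
  have hjφ : j ≫ φ = 0 := by
    obtain ⟨ψ, hψ⟩ : ∃ ψ, (adjI).unit.app F ≫ (Push).map ψ = φ :=
      ⟨((adjI).homEquiv _ _).symm φ, ((adjI).homEquiv_unit _ _ _).symm.trans (Equiv.apply_symm_apply _ _)⟩
    rw [← hψ, reassoc_of% hj, zero_comp]
  have hsq : (w - 𝟙 F) ≫ (w - 𝟙 F) = 0 := by
    rw [← hφ, Category.assoc, reassoc_of% hjφ, zero_comp, comp_zero]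
  obtain ⟨d, hd, rfl⟩ : ∃ d : F ⟶ F, d ≫ d = 0 ∧ w = 𝟙 F + d := ⟨w - 𝟙 F, hsq, (add_sub_cancel _ _).symm⟩
  refine ⟨⟨𝟙 F - d, ?_, ?_⟩⟩ <;>
    simp only [Preadditive.add_comp, Preadditive.comp_add, Preadditive.sub_comp, Preadditive.comp_sub,
      Category.id_comp, Category.comp_id, hd] <;> abel

theorem subsingleton_ext_left {C : Type*} [Category C] [Abelian C] [HasExt.{u} C] {M N O : C} (e : M ≅ N)
    (h : Subsingleton (Abelian.Ext.{u} M O 1)) : Subsingleton (Abelian.Ext.{u} N O 1) := by
  refine ⟨fun a b => ?_⟩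
  have he : ∀ c : Abelian.Ext.{u} N O 1,
      (Abelian.Ext.mk₀ e.inv).comp ((Abelian.Ext.mk₀ e.hom).comp c (zero_add 1)) (zero_add 1) = c := fun c => by
    rw [Abelian.Ext.mk₀_comp_mk₀_assoc, Iso.inv_hom_id, Abelian.Ext.mk₀_id_comp]
  rw [← he a, ← he b]
  exact congrArg (fun q => (Abelian.Ext.mk₀ e.inv).comp q (zero_add 1)) (h.elim _ _)

theorem subsingleton_ext_right {C : Type*} [Category C] [Abelian C] [HasExt.{u} C] {M O O' : C} (e : O ≅ O')
    (h : Subsingleton (Abelian.Ext.{u} M O 1)) : Subsingleton (Abelian.Ext.{u} M O' 1) := by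
  refine ⟨fun a b => ?_⟩
  have he : ∀ c : Abelian.Ext.{u} M O' 1,
      (c.comp (Abelian.Ext.mk₀ e.inv) (add_zero 1)).comp (Abelian.Ext.mk₀ e.hom) (add_zero 1) = c := fun c => by
    simp
  rw [← he a, ← he b]
  exact congrArg (fun q => Abelian.Ext.comp q (Abelian.Ext.mk₀ e.hom) (add_zero 1)) (h.elim _ _)

include hI in
/-- Lifts of locally free modules are unique when the first Ext vanishes. -/
theorem nonempty_iso {E E' : X.Modules} (hE : FlatMod.IsFinLocFree E) (hE' : FlatMod.IsFinLocFree E')
    (e : (Pull).obj E ≅ (Pull).obj E') [HasExt.{u} I.subscheme.Modules]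
    (h1 : Subsingleton (Abelian.Ext.{u} ((Pull).obj E)
      (CohB1.tensorMod ((Pull).obj (ClSub.idealMod I)) ((Pull).obj E)) 1)) : Nonempty (E ≅ E') := by
  let b : CohB1.tensorMod ((Pull).obj (ClSub.idealMod I)) ((Pull).obj E) ≅
      CohB1.tensorMod ((Pull).obj (ClSub.idealMod I)) ((Pull).obj E') :=
    ((DCoh.tensorBi (X := I.subscheme)).obj ((Pull).obj (ClSub.idealMod I))).mapIso e
  obtain ⟨a, ha⟩ := exists_hom hI hE hE' (subsingleton_ext_right b h1) e.hom
  obtain ⟨c, hc⟩ := exists_hom hI hE' hE (subsingleton_ext_left e h1) e.inv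
  have h₁ : IsIso (a ≫ c) := isIso_of_pull_eq_id hI hE (by rw [Functor.map_comp, ha, hc, e.hom_inv_id])
  have h₂ : IsIso (c ≫ a) := isIso_of_pull_eq_id hI hE' (by rw [Functor.map_comp, ha, hc, e.inv_hom_id])
  have : Mono a := mono_of_mono a c
  have : Epi a := epi_of_epi c a
  have : IsIso a := isIso_of_mono_of_epi a
  exact ⟨asIso a⟩

end Groth.ArtfunDeform.VbLift
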